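import Mathlib
import Cfsg.Agent.H952.S7.Defs
import Cfsg.Agent.H952.S7.KF

/-!
# Tables for the threefold cover of `A₇` in characteristic 2 (helper952)

`Hm` : the Hecke operator on the 21-dimensional monomial module (row `p` = image of the `p`-th vector);
`Am` : the 21 vectors of the 6-dimensional module in terms of the numbers 0, 11, ..., 15.
-/

set_option autoImplicit false

namespace Cfsg.Agent.H952.S7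

open Cfsg Cfsg.Lie Module
open Cfsg.Agent.ChevalleyStructure.E6Min.Tables

universe u v

/-- entry of a table -/
def ent (t : List (List ℕ)) (i j : ℕ) : KF := KF.mk ((t.getD i []).getD j 0)

def Htab : List (List ℕ) :=
  [[0, 0, 0, 0, 0, 0, 0, 0, 0, 0, 0, 2, 2, 2, 2, 2, 1, 1, 1, 1, 1],
   [0, 0, 0, 0, 0, 0, 0, 2, 1, 1, 2, 0, 2, 3, 2, 0, 0, 3, 3, 0, 2],
   [0, 0, 0, 0, 0, 0, 2, 0, 2, 1, 1, 0, 0, 2, 3, 2, 2, 0, 3, 3, 0],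
   [0, 0, 0, 0, 0, 0, 1, 2, 0, 2, 1, 2, 0, 0, 2, 3, 0, 2, 0, 3, 3],
   [0, 0, 0, 0, 0, 0, 1, 1, 2, 0, 2, 3, 2, 0, 0, 2, 3, 0, 2, 0, 3],
   [0, 0, 0, 0, 0, 0, 2, 1, 1, 2, 0, 2, 3, 2, 0, 0, 3, 3, 0, 2, 0],
   [0, 0, 3, 1, 1, 3, 0, 0, 0, 0, 0, 0, 2, 1, 2, 0, 0, 2, 2, 0, 3],
   [0, 3, 0, 3, 1, 1, 0, 0, 0, 0, 0, 0, 0, 2, 1, 2, 3, 0, 2, 2, 0],
   [0, 1, 3, 0, 3, 1, 0, 0, 0, 0, 0, 2, 0, 0, 2, 1, 0, 3, 0, 2, 2],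
   [0, 1, 1, 3, 0, 3, 0, 0, 0, 0, 0, 1, 2, 0, 0, 2, 2, 0, 3, 0, 2],
   [0, 3, 1, 1, 3, 0, 0, 0, 0, 0, 0, 2, 1, 2, 0, 0, 2, 2, 0, 3, 0],
   [3, 0, 0, 3, 2, 3, 0, 0, 3, 1, 3, 0, 0, 1, 1, 0, 0, 0, 3, 0, 0],
   [3, 3, 0, 0, 3, 2, 3, 0, 0, 3, 1, 0, 0, 0, 1, 1, 0, 0, 0, 3, 0],
   [3, 2, 3, 0, 0, 3, 1, 3, 0, 0, 3, 1, 0, 0, 0, 1, 0, 0, 0, 0, 3],
   [3, 3, 2, 3, 0, 0, 3, 1, 3, 0, 0, 1, 1, 0, 0, 0, 3, 0, 0, 0, 0],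
   [3, 0, 3, 2, 3, 0, 0, 3, 1, 3, 0, 0, 1, 1, 0, 0, 0, 3, 0, 0, 0],
   [1, 0, 3, 0, 2, 2, 0, 2, 0, 3, 3, 0, 0, 0, 2, 0, 0, 1, 0, 0, 1],
   [1, 2, 0, 3, 0, 2, 3, 0, 2, 0, 3, 0, 0, 0, 0, 2, 1, 0, 1, 0, 0],
   [1, 2, 2, 0, 3, 0, 3, 3, 0, 2, 0, 2, 0, 0, 0, 0, 0, 1, 0, 1, 0],
   [1, 0, 2, 2, 0, 3, 0, 3, 3, 0, 2, 0, 2, 0, 0, 0, 0, 0, 1, 0, 1],
   [1, 3, 0, 2, 2, 0, 2, 0, 3, 3, 0, 0, 0, 2, 0, 0, 1, 0, 0, 1, 0]]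

def Atab : List (List ℕ) :=
  [[1, 0, 0, 0, 0, 0],
   [2, 2, 3, 0, 3, 2],
   [2, 2, 2, 3, 0, 3],
   [2, 3, 2, 2, 3, 0],
   [2, 0, 3, 2, 2, 3],
   [2, 3, 0, 3, 2, 2],
   [3, 2, 1, 0, 1, 2],
   [3, 2, 2, 1, 0, 1],
   [3, 1, 2, 2, 1, 0],
   [3, 0, 1, 2, 2, 1],
   [3, 1, 0, 1, 2, 2],
   [0, 1, 0, 0, 0, 0],
   [0, 0, 1, 0, 0, 0],
   [0, 0, 0, 1, 0, 0],
   [0, 0, 0, 0, 1, 0],
   [0, 0, 0, 0, 0, 1],
   [1, 2, 2, 0, 2, 0],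
   [1, 0, 2, 2, 0, 2],
   [1, 2, 0, 2, 2, 0],
   [1, 0, 2, 0, 2, 2],
   [1, 2, 0, 2, 0, 2]]

/-- the Hecke operator -/
def Hm : Matrix (Fin 21) (Fin 21) KF := fun p q => ent Htab p q

/-- coordinates in the 6-dimensional module -/
def Am : Matrix (Fin 21) (Fin 6) KF := fun p j => ent Atab p j

/-- the basis of the 6-dimensional module -/
def bas : Fin 6 → Fin 21 := ![0, 11, 12, 13, 14, 15]

/-- evaluation of a vector with coefficients in `KF` -/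
def lin {F : Type u} [Field F] {M : Type v} [AddCommGroup M] [Module F M] {n : Type*} [Fintype n] (ω : F) (c : n → KF)
    (v : n → M) : M := ∑ i, KF.io ω (c i) • v i

theorem pr_eq_lin {F : Type u} [Field F] {M : Type v} [AddCommGroup M] [Module F M] {n : Type*} [Fintype n] {ω : F}
    (h2 : (2 : F) = 0) (hω : ω * ω = ω + 1) (c : n → KF) (v : n → M) : pr (KF.iota h2 hω) c v = lin ω c v := rfl

/-- the sum over the group of order 21 generated by `S T` and `yw S T` -/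
noncomputable def eD {F : Type u} [Field F] {G : Type*} [Group G] (σ : Representation F G (I27 → F)) (S T : G) :
    (I27 → F) →ₗ[F] (I27 → F) := ∑ j : Fin 3, ∑ i : Fin 7, σ (yw S T ^ (j : ℕ) * (S * T) ^ (i : ℕ))

/-- `H`-fixed families: they generate a 6-dimensional module -/
def HFix {F : Type u} [Field F] (ω : F) (v : Fin 21 → I27 → F) : Prop := ∀ p, v p = lin ω (Hm p) v

/-- the rows of `Hm` with numbers `bas` -/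
def Hb : Matrix (Fin 6) (Fin 21) KF := fun j q => Hm (bas j) q

theorem Am_Hm : Am * Hb = Hm := by
  decide +kernel

end Cfsg.Agent.H952.S7
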